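import Cfsg.Agent.H21.Invol.Word
import Cfsg.Agent.H53.TwistChar2
import Cfsg.Agent.H52.Borel

/-!
Certificates that reduce the involutions of `U` in characteristic two to given products of root elements.
-/

set_option autoImplicit false
set_option linter.unusedSectionVars false
set_option maxHeartbeats 200000

namespace H21.Invol

open Cfsg.Lie H52

/-- A binary tree of certificate nodes. -/
inductive Tr (α : Type) where
  | lf (a : α)
  | nd (k : ℕ) (l r : Tr α)

/-- The entry with index `i`. -/
def Tr.get {α : Type} : Tr α → ℕ → α
  | .lf a, _ => a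
  | .nd k l r, i => if i < k then l.get i else r.get (i - k)

/-- The moves between states with all coefficients 1. -/
inductive NMove where
  | leaf
  | x (s next : ℕ)
  | n (i next : ℕ)

/-- A state with all coefficients 1: the mask of the roots and a move. -/
structure NSt where
  m : ℕ
  mv : NMove

/-- The steps between symbolic states. -/
inductive Step where
  | triv
  | split (r i0 i1 : ℕ)
  | contra (u : ℕ)
  | zero (u s next : ℕ)
  | conj (s u next : ℕ)
  | num (next e : ℕ) (v : List (List ℤ))

/-- A symbolic state: the mask of roots known nonzero, the mask of the support, and a step. -/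
structure St where
  nN : ℕ
  nS : ℕ
  st : Step

variable (D : ChevalleyDatum) (t : Tab)

/-- The positive roots in a mask. -/
def lst (m : ℕ) : List ℕ :=
  (List.range' (D.nroots / 2) (D.nroots - D.nroots / 2)).filter fun r => m.testBit r

/-- The positive roots. -/
def posList : List ℕ := List.range' (D.nroots / 2) (D.nroots - D.nroots / 2)

/-- The word with coefficients 1. -/
def onesW (L : List ℕ) : Wd := L.map fun r => (r, [[]])

/-- The word with variable coefficients. -/
def varW (L : List ℕ) : Wd := L.map fun r => (r, [[r]])

/-- The fuel of collection. -/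
def fuel : ℕ := 300

/-- Check a state with coefficients 1. -/
def chkN (reps : List (List ℕ)) (T : Tr NSt) (i : ℕ) : Bool :=
  let a := T.get i
  match a.mv with
  | .leaf => reps.contains (lst D a.m)
  | .x s j => decide (j < i) &&
      (pushes D t fuel ((s, [[]]) :: (onesW (lst D a.m) ++ [(s, [[]])])) [] ==
        some (onesW (lst D (T.get j).m)))
  | .n k j => decide (j < i) && decide (k < D.rank) &&
      (pushes D t fuel (onesW ((lst D a.m).map (D.reflectRoot k))) [] ==
        some (onesW (lst D (T.get j).m)))

/-- All variables of a monomial are known nonzero, except possibly `s`. -/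
def knownBut (N s : ℕ) (m : Mon) : Bool := m.all fun v => v == s || ((posList D).contains v && N.testBit v)

/-- All variables of a monomial are known nonzero. -/
def known (N : ℕ) (m : Mon) : Bool := m.all fun v => (posList D).contains v && N.testBit v

/-- A polynomial that is a monomial in the known variables. -/
def knownP (N : ℕ) : Pol → Bool
  | [m] => known D N m
  | _ => false

/-- Check the torus data. -/
def chkTorus (S : List ℕ) (e : ℕ) (v : List (List ℤ)) : Bool :=
  (List.range S.length).all fun a => (List.range S.length).all fun b =>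
    ((List.range D.rank).map fun k => (v.getD a []).getD k 0 * D.cartan k (S.getD b 0)).sum ==
      if a = b then (2 : ℤ) ^ e else 0

/-- Check a symbolic state. -/
def chk (T : Tr St) (TN : Tr NSt) (lenN : ℕ) (i : ℕ) : Bool :=
  let a := T.get i
  let N := a.nN
  let S := lst D a.nS
  match a.st with
  | .triv => S.isEmpty
  | .split r j0 j1 =>
      let c0 := T.get j0
      let c1 := T.get j1
      decide (j0 < i) && decide (j1 < i) && (lst D c0.nS == S.filter (· != r)) &&
        (lst D c1.nS == S) &&
        (posList D).all (fun x => !c0.nN.testBit x || (N.testBit x && x != r)) &&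
        (posList D).all (fun x => !c1.nN.testBit x || (N.testBit x || x == r))
  | .contra u =>
      match pushes D t fuel (varW S ++ varW S) [] with
      | some L => isNF D L && (posList D).contains u && knownP D N (coef L u)
      | none => false
  | .zero u s j =>
      let c := T.get j
      decide (j < i) && (lst D c.nS == S.filter (· != s)) &&
        (posList D).all (fun x => !c.nN.testBit x || (N.testBit x && x != s)) &&
        match pushes D t fuel (varW S ++ varW S) [] with
        | some L => isNF D L && (posList D).contains u &&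
            match coef L u with
            | [m] => knownBut D N s m
            | _ => false
        | none => false
  | .conj s u j =>
      let c := T.get j
      decide (j < i) && decide (s < D.nroots) &&
        match pushes D t fuel ((s, [[D.nroots]]) :: (varW S ++ [(s, [[D.nroots]])])) [] with
        | some L => isNF D L && (lst D c.nS == (L.map Prod.fst).filter (· != u)) &&
            (posList D).all (fun x => !c.nN.testBit x || (x != u && knownP D N (coef L x))) &&
            match (coef L u).filter (fun m => m.contains D.nroots) with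
            | [m] => (m.count D.nroots == 1 || m.count D.nroots == 2) &&
                known D N (m.filter (· != D.nroots))
            | _ => false
        | none => false
  | .num j e v =>
      decide (j < lenN) && (lst D (TN.get j).m == S) && S.all (fun x => N.testBit x) &&
        chkTorus D S e v

variable {D t}

section sound

variable {T : Tables} (hC : Checked D T) (ht : ∀ r < D.nroots, tabOK D t r = true)
variable {F : Type*} [Field F] [Fintype F] [CharP F 2]

/-- The product of the root elements of a list with given parameters. -/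
noncomputable def prodRt (D : ChevalleyDatum) (L : List ℕ) (a : ℕ → F) : GL D.Idx F :=
  wordRt D (L.map fun r => (r, a r))

/-- Conjugate to one of the representatives. -/
def Rep (D : ChevalleyDatum) (reps : List (List ℕ)) (g : GL D.Idx F) : Prop :=
  ∃ h ∈ D.group F, ∃ L ∈ reps, h * g * h⁻¹ = prodRt D L fun _ => 1

theorem Rep.of_conj {reps : List (List ℕ)} {g h : GL D.Idx F} (hh : h ∈ D.group F)
    (hr : Rep D reps (h * g * h⁻¹)) : Rep D reps g := by
  obtain ⟨k, hk, L, hL, e⟩ := hr
  exact ⟨k * h, mul_mem hk hh, L, hL, by simpa [mul_assoc] using e⟩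

theorem evW_onesW (ρ : ℕ → F) (L : List ℕ) : evW D ρ (onesW L) = prodRt D L fun _ => 1 := by
  simp [evW, onesW, prodRt, List.map_map, Function.comp_def, evP, evM]

theorem evW_varW (ρ : ℕ → F) (L : List ℕ) : evW D ρ (varW L) = prodRt D L ρ := by
  simp [evW, varW, prodRt, List.map_map, Function.comp_def, evP, evM]

theorem mem_lst {m r : ℕ} : r ∈ lst D m ↔ r ∈ posList D ∧ m.testBit r = true := List.mem_filter

include hC in
theorem lt_of_mem_posList {r : ℕ} (hr : r ∈ posList D) : D.nroots / 2 ≤ r ∧ r < D.nroots := by
  have := hC.nroots_eq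
  rw [posList, List.mem_range'_1] at hr
  omega

include hC in
theorem rt_self (r : ℕ) (x : F) : rt D r x * rt D r x = 1 := by
  rw [hC.rt_mul, CharTwo.add_self_eq_zero, hC.rt_zero]

include hC in
theorem prodRt_filter (L : List ℕ) (a : ℕ → F) (r : ℕ) (h : a r = 0) :
    prodRt D (L.filter (· != r)) a = prodRt D L a := by
  induction L with
  | nil => rfl
  | cons x L ih =>
    by_cases hx : x = r
    · subst hx
      rw [List.filter_cons_of_neg (by simp), ih]
      simp [prodRt, wordRt, h, hC.rt_zero]
    · rw [List.filter_cons_of_pos (by simp [hx])]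
      simp only [prodRt, wordRt, List.map_cons, List.prod_cons] at ih ⊢
      rw [ih]

include hC ht in
theorem numeric_sound {reps : List (List ℕ)} {TN : Tr NSt} {len : ℕ}
    (hT : ∀ i < len, chkN D t reps TN i = true) :
    ∀ i < len, Rep (F := F) D reps (prodRt D (lst D (TN.get i).m) fun _ => 1) := by
  intro i
  induction i using Nat.strong_induction_on with
  | _ i ih =>
  intro hi
  have h2 : (2 : F) = 0 := CharTwo.two_eq_zero
  have h := hT i hi
  simp only [chkN] at h
  split at h
  · refine ⟨1, one_mem _, _, List.contains_iff_mem.1 h, by simp⟩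
  · next s j _ =>
    simp only [Bool.and_eq_true, decide_eq_true_eq, beq_iff_eq] at h
    obtain ⟨hj, he⟩ := h
    have he' := evW_pushes h2 (fun _ => (0 : F)) hC ht _ _ _ _ he
    rw [evW_nil, mul_one, evW_cons, evW_append, evW_onesW, evW_onesW, evW_cons, evW_nil, mul_one] at he'
    refine Rep.of_conj (hC.rt_mem_group s (evP (fun _ => (0 : F)) [[]])) ?_
    rw [inv_eq_of_mul_eq_one_left (rt_self hC s _), mul_assoc, ← he']
    exact ih j hj (hj.trans hi)
  · next k j _ =>
    simp only [Bool.and_eq_true, decide_eq_true_eq, beq_iff_eq] at h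
    obtain ⟨⟨hj, hk⟩, he⟩ := h
    have he' := evW_pushes h2 (fun _ => (0 : F)) hC ht _ _ _ _ he
    rw [evW_nil, mul_one, evW_onesW, evW_onesW] at he'
    refine Rep.of_conj (hC.monomial_le_group (hC.nElt_mem (F := F) (hC.simple_lt hk))) ?_
    have key : ∀ L : List ℕ, (∀ r ∈ L, r < D.nroots) →
        nElt D (D.simple k) (1 : F) * prodRt D L (fun _ => 1) * (nElt D (D.simple k) 1)⁻¹ =
          prodRt D (L.map (D.reflectRoot k)) fun _ => 1 := by
      intro L
      induction L with
      | nil => intro _; simp [prodRt, wordRt]
      | cons x L ihL =>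
        intro hL
        have := ihL fun r hr => hL r (List.mem_cons_of_mem _ hr)
        simp only [prodRt, wordRt, List.map_cons, List.prod_cons] at this ⊢
        rw [← H53.sig_conj_rt_two hC h2 hk (hL x List.mem_cons_self), ← this]
        group
    rw [key _ fun r hr => (lt_of_mem_posList hC (mem_lst.1 hr).1).2, ← he']
    exact ih j hj (hj.trans hi)

theorem evM_ne_zero {N : ℕ} {a : ℕ → F} {m : Mon} (hm : known D N m = true)
    (hN : ∀ x ∈ posList D, N.testBit x = true → a x ≠ 0) : evM a m ≠ 0 := by
  simp only [known, List.all_eq_true, Bool.and_eq_true, List.contains_iff_mem] at hm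
  refine List.prod_ne_zero fun h0 => ?_
  obtain ⟨v, hv, he⟩ := List.mem_map.1 h0
  exact hN v (hm v hv).1 (hm v hv).2 he

theorem evP_ne_zero {N : ℕ} {a : ℕ → F} {P : Pol} (hm : knownP D N P = true)
    (hN : ∀ x ∈ posList D, N.testBit x = true → a x ≠ 0) : evP a P ≠ 0 := by
  match P, hm with
  | [m], hm => simpa [evP] using evM_ne_zero hm hN

theorem prod_zpow_eq {α G : Type*} [CommGroup G] (s : Finset α) (f : α → ℤ) (x : G) :
    ∏ i ∈ s, x ^ f i = x ^ ∑ i ∈ s, f i := by
  classical
  induction s using Finset.induction with
  | empty => simp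
  | insert i s hi ih => rw [Finset.prod_insert hi, Finset.sum_insert hi, zpow_add, ih]

/-- A torus element scaling the parameters to 1. -/
theorem exists_scale {S : List ℕ} {e : ℕ} {v : List (List ℤ)} (h : chkTorus D S e v = true)
    (a : ℕ → F) (ha : ∀ r ∈ S, a r ≠ 0) :
    ∃ c : Fin D.rank → Fˣ, ∀ r ∈ S, ((∏ i : Fin D.rank, c i ^ D.cartan i.val r : Fˣ) : F) * a r = 1 := by
  classical
  haveI : Fact (Nat.Prime 2) := ⟨Nat.prime_two⟩
  have hroot : ∀ x : Fˣ, ∃ y : Fˣ, y ^ ((2 : ℤ) ^ e) = x := by
    intro x
    obtain ⟨y, hy⟩ := (Finite.injective_iff_surjective.1 (iterateFrobenius F 2 e).injective) (x : F)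
    rw [iterateFrobenius_def] at hy
    have hy0 : y ≠ 0 := by
      rintro rfl
      rw [zero_pow (pow_ne_zero _ two_ne_zero)] at hy
      exact x.ne_zero hy.symm
    refine ⟨Units.mk0 y hy0, Units.ext ?_⟩
    rw [show ((2 : ℤ) ^ e) = ((2 ^ e : ℕ) : ℤ) by push_cast; rfl, zpow_natCast, Units.val_pow_eq_pow_val]
    exact hy
  choose root hroot using hroot
  set n := S.length
  let z : Fin n → Fˣ := fun j => root (Units.mk0 (a (S[j])) (ha _ (List.getElem_mem _)))⁻¹
  refine ⟨fun k => ∏ j : Fin n, z j ^ (v.getD j.val []).getD k.val 0, fun r hr => ?_⟩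
  obtain ⟨b, hb, rfl⟩ := List.getElem_of_mem hr
  have hcomb : (∏ i : Fin D.rank, (∏ j : Fin n, z j ^ (v.getD j.val []).getD i.val 0) ^
      D.cartan i.val S[b]) = z ⟨b, hb⟩ ^ ((2 : ℤ) ^ e) := by
    simp only [← Finset.prod_zpow, ← zpow_mul]
    rw [Finset.prod_comm, Finset.prod_eq_single (⟨b, hb⟩ : Fin n)]
    · rw [prod_zpow_eq]
      congr 1
      simp only [chkTorus, List.all_eq_true, List.mem_range, beq_iff_eq] at h
      have := h b hb b hb
      rw [if_pos rfl] at this
      rw [← this, Finset.sum_fin_eq_sum_range, ← List.sum_toFinset _ List.nodup_range,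
        List.toFinset_range]
      refine Finset.sum_congr rfl fun k hk => ?_
      rw [dif_pos (Finset.mem_range.1 hk), List.getD_eq_getElem S 0 hb]
    · intro j _ hj
      rw [prod_zpow_eq]
      convert zpow_zero (z j)
      simp only [chkTorus, List.all_eq_true, List.mem_range, beq_iff_eq] at h
      have := h j.val j.isLt b hb
      rw [if_neg fun e => hj (Fin.ext e)] at this
      refine Eq.trans ?_ this
      rw [Finset.sum_fin_eq_sum_range, ← List.sum_toFinset _ List.nodup_range,
        List.toFinset_range]
      refine Finset.sum_congr rfl fun k hk => ?_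
      rw [dif_pos (Finset.mem_range.1 hk), List.getD_eq_getElem S 0 hb]
    · simp
  rw [hcomb, hroot, Units.val_inv_eq_inv_val, Units.val_mk0]
  exact inv_mul_cancel₀ (ha _ hr)

/-- A root of the equation at the pivot. -/
theorem exists_solve (P : Pol) (m : Mon) (hf : P.filter (fun p => p.contains D.nroots) = [m])
    (hk : m.count D.nroots = 1 ∨ m.count D.nroots = 2) (a : ℕ → F)
    (hm : evM a (m.filter (· != D.nroots)) ≠ 0) :
    ∃ c : F, evP (Function.update a D.nroots c) P = 0 := by
  set n := D.nroots
  set rest := P.filter (fun p => !p.contains n)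
  have hsplit : ∀ ρ : ℕ → F, evP ρ P = evM ρ m + evP ρ rest := by
    intro ρ
    have : ∀ Q : Pol, evP ρ Q = evP ρ (Q.filter fun p => p.contains n) + evP ρ (Q.filter fun p => !p.contains n) := by
      intro Q
      induction Q with
      | nil => simp [evP]
      | cons q Q ih =>
        by_cases hq : q.contains n = true
        · rw [List.filter_cons_of_pos (p := fun p => List.contains p n) hq,
            List.filter_cons_of_neg (p := fun p => !List.contains p n) (by simp [List.contains_iff_mem.1 hq])]
          simp only [evP, List.map_cons, List.sum_cons] at ih ⊢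
          rw [ih]; ring
        · rw [List.filter_cons_of_neg (p := fun p => List.contains p n) hq,
            List.filter_cons_of_pos (p := fun p => !List.contains p n) (by simpa using hq)]
          simp only [evP, List.map_cons, List.sum_cons] at ih ⊢
          rw [ih]; ring
    rw [this P, hf]
    simp [evP, rest, n]
  have hrest : ∀ c, evP (Function.update a n c) rest = evP a rest := fun c => by
    refine congrArg List.sum (List.map_congr_left fun p hp => congrArg List.prod (List.map_congr_left fun v hv => ?_))
    refine Function.update_of_ne (fun e => ?_) _ _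
    have := (List.mem_filter.1 hp).2
    simp only [Bool.not_eq_true', ← Bool.not_eq_true, List.contains_iff_mem] at this
    exact this (e ▸ hv)
  have hmon : ∀ c : F, evM (Function.update a n c) m = c ^ m.count n * evM a (m.filter (· != n)) := by
    intro c
    clear hf hk hm hsplit
    induction m with
    | nil => simp [evM]
    | cons v m ih =>
      by_cases hv : v = n
      · subst hv
        rw [List.count_cons_self, List.filter_cons_of_neg (by simp), pow_succ']
        simp only [evM, List.map_cons, List.prod_cons, Function.update_self] at ih ⊢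
        rw [ih]; ring
      · rw [List.count_cons_of_ne hv, List.filter_cons_of_pos (by simp [hv])]
        simp only [evM, List.map_cons, List.prod_cons, Function.update_of_ne hv] at ih ⊢
        rw [ih]; ring
  set b := evP a rest / evM a (m.filter (· != n))
  have hb : ∃ c : F, c ^ m.count n = b := by
    rcases hk with h | h
    · exact ⟨b, by rw [h, pow_one]⟩
    · obtain ⟨c, hc⟩ := FiniteField.isSquare_of_char_two (ringChar.eq F 2) b
      exact ⟨c, by rw [h, sq, ← hc]⟩
  obtain ⟨c, hc⟩ := hb
  refine ⟨c, ?_⟩
  rw [hsplit, hrest, hmon, hc, div_mul_cancel₀ _ hm, CharTwo.add_self_eq_zero]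

include hC ht in
theorem symbolic_sound {reps : List (List ℕ)} {TN : Tr NSt} {lenN : ℕ}
    (hN : ∀ i < lenN, chkN D t reps TN i = true) {TS : Tr St} {len : ℕ}
    (hT : ∀ i < len, chk D t TS TN lenN i = true) :
    ∀ i < len, ∀ a : ℕ → F, (∀ x ∈ posList D, (TS.get i).nN.testBit x = true → a x ≠ 0) →
      prodRt D (lst D (TS.get i).nS) a * prodRt D (lst D (TS.get i).nS) a = 1 →
      prodRt D (lst D (TS.get i).nS) a = 1 ∨ Rep D reps (prodRt D (lst D (TS.get i).nS) a) := by
  intro i
  induction i using Nat.strong_induction_on with
  | _ i ih =>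
  intro hi a ha hsq
  have h2 : (2 : F) = 0 := CharTwo.two_eq_zero
  set N := (TS.get i).nN
  set S := lst D (TS.get i).nS with hS
  set g := prodRt D S a
  have h := hT i hi
  simp only [chk] at h
  have hsqW : ∀ L, pushes D t fuel (varW S ++ varW S) [] = some L → evW D a L = 1 := by
    intro L hL
    rw [evW_pushes h2 a hC ht _ _ _ _ hL, evW_nil, mul_one, evW_append, evW_varW, hsq]
  split at h
  · left
    rw [List.isEmpty_iff] at h
    show prodRt D S a = 1
    rw [hS, h]
    simp [prodRt, wordRt]
  · next r j0 j1 _ =>
    simp only [Bool.and_eq_true, decide_eq_true_eq, beq_iff_eq, List.all_eq_true, Bool.or_eq_true,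
      Bool.not_eq_true', bne_iff_ne] at h
    obtain ⟨⟨⟨⟨⟨hj0, hj1⟩, e0⟩, e1⟩, n0⟩, n1⟩ := h
    by_cases hr : a r = 0
    · have hg : prodRt D (lst D (TS.get j0).nS) a = g := by rw [e0]; exact prodRt_filter hC S a r hr
      rw [← hg]
      exact ih j0 hj0 (hj0.trans hi) a
        (fun x hx hx' => ha x hx ((n0 x hx).resolve_left (by simp [hx'])).1) (by rw [hg]; exact hsq)
    · have hg : prodRt D (lst D (TS.get j1).nS) a = g := by rw [e1]
      rw [← hg]
      refine ih j1 hj1 (hj1.trans hi) a (fun x hx hx' => ?_) (by rw [hg]; exact hsq)
      rcases (n1 x hx).resolve_left (by simp [hx']) with h | h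
      · exact ha x hx h
      · exact h ▸ hr
  · next u _ =>
    split at h
    · next L hL =>
      simp only [Bool.and_eq_true, List.contains_iff_mem, List.all_eq_true] at h
      obtain ⟨⟨hnf, hu⟩, hk⟩ := h
      obtain ⟨hu1, hu2⟩ := lt_of_mem_posList hC hu
      exact absurd (coef_eq_zero a hC hnf (hsqW L hL) hu1 hu2) (evP_ne_zero hk ha)
    · simp at h
  · next u s j _ =>
    simp only [Bool.and_eq_true, decide_eq_true_eq, beq_iff_eq, List.all_eq_true, Bool.or_eq_true,
      Bool.not_eq_true', bne_iff_ne] at h
    obtain ⟨⟨⟨hj, ej⟩, nj⟩, hm⟩ := h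
    split at hm
    · next L hL =>
      simp only [Bool.and_eq_true, List.contains_iff_mem] at hm
      obtain ⟨⟨hnf, hu⟩, hm⟩ := hm
      obtain ⟨hu1, hu2⟩ := lt_of_mem_posList hC hu
      split at hm
      · next m hP =>
        have h0 := coef_eq_zero a hC hnf (hsqW L hL) hu1 hu2
        rw [hP, show evP a [m] = evM a m by simp [evP]] at h0
        obtain ⟨v, hv, hv0⟩ := List.mem_map.1 (List.prod_eq_zero_iff.1 h0)
        simp only [knownBut, List.all_eq_true, Bool.or_eq_true, Bool.and_eq_true, beq_iff_eq,
          List.contains_iff_mem] at hm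
        have hs : a s = 0 := by
          rcases hm v hv with h | ⟨h1, h2⟩
          · exact h ▸ hv0
          · exact absurd hv0 (ha v h1 h2)
        have hg : prodRt D (lst D (TS.get j).nS) a = g := by rw [ej]; exact prodRt_filter hC S a s hs
        rw [← hg]
        exact ih j hj (hj.trans hi) a
          (fun x hx hx' => ha x hx ((nj x hx).resolve_left (by simp [hx'])).1) (by rw [hg]; exact hsq)
      · simp at hm
    · simp at hm
  · next s u j _ =>
    simp only [Bool.and_eq_true, decide_eq_true_eq] at h
    obtain ⟨⟨hj, hs⟩, hm⟩ := h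
    split at hm
    · next L hL =>
      simp only [Bool.and_eq_true, List.all_eq_true, Bool.or_eq_true, Bool.not_eq_true', beq_iff_eq,
        bne_iff_ne] at hm
      obtain ⟨⟨⟨hnf, ej⟩, nj⟩, hm⟩ := hm
      split at hm
      · next m hf =>
        simp only [Bool.and_eq_true, Bool.or_eq_true, beq_iff_eq] at hm
        obtain ⟨hcount, hm'⟩ := hm
        obtain ⟨c0, hc0⟩ := exists_solve (coef L u) m hf hcount a (evM_ne_zero hm' ha)
        set ρ := Function.update a D.nroots c0 with hρ
        have hρN : ∀ x ∈ posList D, N.testBit x = true → ρ x ≠ 0 := fun x hx hx' => by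
          rw [hρ, Function.update_of_ne (lt_of_mem_posList hC hx).2.ne]
          exact ha x hx hx'
        have hρS : prodRt D S ρ = g := by
          refine congrArg (wordRt D) (List.map_congr_left fun r hr => ?_)
          rw [hρ, Function.update_of_ne (lt_of_mem_posList hC (mem_lst.1 hr).1).2.ne]
        have he := evW_pushes h2 ρ hC ht _ _ _ _ hL
        rw [evW_nil, mul_one, evW_cons, evW_append, evW_varW, hρS, evW_cons, evW_nil, mul_one] at he
        set xs := rt D s (evP ρ [[D.nroots]])
        have hconj : xs * g * xs⁻¹ = evW D ρ L := by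
          rw [inv_eq_of_mul_eq_one_left (rt_self hC s _), he, mul_assoc]
        set a' : ℕ → F := fun r => evP ρ (coef L r)
        have hg : prodRt D (lst D (TS.get j).nS) a' = evW D ρ L := by
          rw [ej, prodRt_filter hC _ a' u hc0]
          simp only [isNF, beq_iff_eq] at hnf
          conv_rhs => rw [hnf]
          conv_lhs => rw [hnf]
          simp only [prodRt, evW, List.map_map, Function.comp_def, a']
        have hsq' : evW D ρ L * evW D ρ L = 1 := by
          rw [← hconj, show xs * g * xs⁻¹ * (xs * g * xs⁻¹) = xs * (g * g) * xs⁻¹ by group, hsq]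
          group
        have := ih j hj (hj.trans hi) a'
          (fun x hx hx' => evP_ne_zero ((nj x hx).resolve_left (by simp [hx'])).2 hρN)
          (by rw [hg]; exact hsq')
        rw [hg, ← hconj] at this
        rcases this with h1 | h1
        · left
          rw [mul_inv_eq_one, mul_eq_left] at h1
          exact h1
        · exact Or.inr (Rep.of_conj (hC.rt_mem_group s _) h1)
      · simp at hm
    · simp at hm
  · next j e v _ =>
    simp only [Bool.and_eq_true, decide_eq_true_eq, beq_iff_eq, List.all_eq_true] at h
    obtain ⟨⟨⟨hj, hlst⟩, hall⟩, htor⟩ := h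
    right
    obtain ⟨c, hc⟩ := exists_scale htor a fun r hr => ha r (mem_lst.1 hr).1 (hall r hr)
    refine Rep.of_conj (hC.diag_le_group (show torus D c ∈ D.diagonalSubgroup F by
      rw [hC.diagonalSubgroup_eq]; exact ⟨c, rfl⟩)) ?_
    have key : ∀ L : List ℕ, (∀ r ∈ L, r ∈ S) →
        torus D c * prodRt D L a * (torus D c)⁻¹ = prodRt D L fun _ => 1 := by
      intro L
      induction L with
      | nil => intro _; simp [prodRt, wordRt]
      | cons x L ihL =>
        intro hL
        have := ihL fun r hr => hL r (List.mem_cons_of_mem _ hr)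
        have hx : x ∈ S := hL x List.mem_cons_self
        have h1 := hC.torus_conj_rt c (lt_of_mem_posList hC (mem_lst.1 hx).1).2 (a x)
        rw [hc x hx] at h1
        simp only [prodRt, wordRt, List.map_cons, List.prod_cons] at this ⊢
        rw [← h1, ← this]
        group
    rw [key S fun r hr => hr, show S = lst D (TN.get j).m from hlst.symm]
    exact numeric_sound hC ht hN j hj

end sound

end H21.Invol
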