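import Cfsg.Agent.H21.Invol.F4Data

/-!
The certificate checks for `F4`.
-/

set_option autoImplicit false
set_option maxRecDepth 20000
set_option maxHeartbeats 400000

namespace H21.Invol.F4

open Cfsg.Lie

theorem tab_ok : ∀ r < chevF4.nroots, tabOK chevF4 tab r = true := by decide +kernel

theorem rootTorus_ok : ∀ r < chevF4.nroots,
    chkTorus chevF4 [r] (rootTorus.getD r (0, [])).1 (rootTorus.getD r (0, [])).2 = true := by decide +kernel

theorem num_ok0 : ((List.range' 0 512).all fun i => chkN chevF4 tab reps numT i) = true := by decide +kernel

theorem num_ok1 : ((List.range' 512 394).all fun i => chkN chevF4 tab reps numT i) = true := by decide +kernel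

theorem num_ok : ∀ i < numTLen, chkN chevF4 tab reps numT i = true := by
  intro i hi
  have hi' : i < 906 := hi
  by_cases h0 : i < 512
  · exact List.all_eq_true.1 num_ok0 i (List.mem_range'_1.2 (by omega))
  exact List.all_eq_true.1 num_ok1 i (List.mem_range'_1.2 (by omega))

theorem sym_ok0 : ((List.range' 0 512).all fun i => chk chevF4 tab symT numT numTLen i) = true := by decide +kernel

theorem sym_ok1 : ((List.range' 512 512).all fun i => chk chevF4 tab symT numT numTLen i) = true := by decide +kernel

theorem sym_ok2 : ((List.range' 1024 108).all fun i => chk chevF4 tab symT numT numTLen i) = true := by decide +kernel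

theorem sym_ok : ∀ i < symTLen, chk chevF4 tab symT numT numTLen i = true := by
  intro i hi
  have hi' : i < 1132 := hi
  by_cases h0 : i < 512
  · exact List.all_eq_true.1 sym_ok0 i (List.mem_range'_1.2 (by omega))
  by_cases h1 : i < 1024
  · exact List.all_eq_true.1 sym_ok1 i (List.mem_range'_1.2 (by omega))
  exact List.all_eq_true.1 sym_ok2 i (List.mem_range'_1.2 (by omega))

end H21.Invol.F4
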