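import Cfsg.Agent.H53.BitMat
import Cfsg.Agent.H52.GroupGen
import Cfsg.Agent.H52.Torus

/-!
Separating classes of products of root elements by the rank of `y - 1` on an invariant coordinate subspace.
-/

set_option autoImplicit false
set_option linter.unusedSectionVars false
set_option maxHeartbeats 200000

namespace H21.Invol

open Cfsg.Lie H52 H53.BitMat

variable (D : ChevalleyDatum)

/-- The projection onto the coordinates in a mask. -/
def projB (m : ℕ) : List ℕ :=
  (List.range (D.rank + D.nroots)).map fun i => if m.testBit i then 2 ^ i else 0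

/-- The bits of `y - 1`. -/
def subOne (w : List ℕ) : List ℕ :=
  (List.range (D.rank + D.nroots)).map fun i => (bword D w).getD i 0 ^^^ 2 ^ i

/-- The coordinate subspace is invariant under the root element with parameter 1. -/
def invOK (m r : ℕ) : Bool :=
  bmul (D.rank + D.nroots) (projB D m) (bmul (D.rank + D.nroots) (bx D r) (projB D m)) ==
    bmul (D.rank + D.nroots) (bx D r) (projB D m)

/-- The rank is at most `k`. -/
def upOK (m : ℕ) (w : List ℕ) (k : ℕ) (C E : List ℕ) : Bool :=
  bmul (D.rank + D.nroots) (subOne D w) (projB D m) ==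
    bmul (D.rank + D.nroots) C (bmul (D.rank + D.nroots) (projB D (2 ^ k - 1)) E)

/-- The rank is at least `k`. -/
def lowOK (m : ℕ) (w : List ℕ) (k : ℕ) (A B : List ℕ) : Bool :=
  bmul (D.rank + D.nroots) A (bmul (D.rank + D.nroots) (bmul (D.rank + D.nroots) (subOne D w) (projB D m)) B) ==
    projB D (2 ^ k - 1)

variable {D} {T : Tables} (hC : Checked D T) {F : Type*} [Field F] [Fintype F] [CharP F 2]

theorem evalB_projB (m : ℕ) : evalB D F (projB D m) =
    Matrix.diagonal fun a => bit F (m.testBit (finSumFinEquiv a).val) := by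
  ext a b
  simp only [evalB, Matrix.of_apply, projB, List.getD_eq_getElem?_getD, List.getElem?_map,
    List.getElem?_range (show (finSumFinEquiv a).val < D.rank + D.nroots from (finSumFinEquiv a).isLt),
    Option.map_some, Option.getD_some, Matrix.diagonal_apply]
  by_cases h : a = b
  · subst h; cases m.testBit (finSumFinEquiv a).val <;> simp [bit]
  · rw [if_neg h]
    have : ¬ (finSumFinEquiv a).val = (finSumFinEquiv b).val := fun e => h (finSumFinEquiv.injective (Fin.ext e))
    cases m.testBit (finSumFinEquiv a).val <;> simp [bit, this]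

theorem evalB_subOne (w : List ℕ) :
    evalB D F (subOne D w) = D.wordMat F (w.map fun r => (r, 1)) - 1 := by
  have h2 : (2 : F) = 0 := CharTwo.two_eq_zero
  rw [← evalB_bword D h2, ← evalB_bone (F := F) D]
  ext a b
  simp only [evalB, Matrix.of_apply, Matrix.sub_apply, subOne, bone, List.getD_eq_getElem?_getD, List.getElem?_map,
    List.getElem?_range (show (finSumFinEquiv a).val < D.rank + D.nroots from (finSumFinEquiv a).isLt),
    Option.map_some, Option.getD_some]
  rw [Nat.testBit_xor, bit_bne h2, sub_eq_add_neg, CharTwo.neg_eq]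

theorem rank_projB_low (k : ℕ) (hk : k ≤ D.rank + D.nroots) :
    (evalB D F (projB D (2 ^ k - 1))).rank = k := by
  classical
  rw [evalB_projB, Matrix.rank_diagonal, ← Fintype.card_fin k]
  refine Fintype.card_congr
    { toFun := fun a => ⟨(finSumFinEquiv a.1).val, ?_⟩
      invFun := fun i => ⟨finSumFinEquiv.symm ⟨i.val, lt_of_lt_of_le i.isLt hk⟩, ?_⟩
      left_inv := fun a => Subtype.ext (by simp)
      right_inv := fun i => Fin.ext (by simp) }
  · have h := a.2
    rw [Nat.testBit_two_pow_sub_one] at h
    by_contra hc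
    simp [bit, hc] at h
  · simp [bit, Nat.testBit_two_pow_sub_one]

include hC in
/-- The coordinate subspace is invariant under the group. -/
theorem inv_group (m : ℕ) (h : ∀ r < D.nroots, invOK D m r = true)
    (hchar : ∀ r < D.nroots, ∀ x : Fˣ, ∃ c : Fin D.rank → Fˣ,
      (∏ i : Fin D.rank, c i ^ D.cartan i.val r : Fˣ) = x)
    {g : GL D.Idx F} (hg : g ∈ D.group F) :
    evalB D F (projB D m) * ((g : Matrix D.Idx D.Idx F) * evalB D F (projB D m)) =
      (g : Matrix D.Idx D.Idx F) * evalB D F (projB D m) := by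
  have h2 : (2 : F) = 0 := CharTwo.two_eq_zero
  set J := evalB D F (projB D m) with hJ
  have hJJ : J * J = J := by
    rw [hJ, evalB_projB, Matrix.diagonal_mul_diagonal]
    congr 1
    funext a
    cases m.testBit (finSumFinEquiv a).val <;> simp [bit]
  have hmul : ∀ x y : Matrix D.Idx D.Idx F, J * (x * J) = x * J → J * (y * J) = y * J →
      J * (x * y * J) = x * y * J := by
    intro x y hx hy
    calc J * (x * y * J) = J * (x * (J * (y * J))) := by rw [hy, Matrix.mul_assoc]
      _ = J * (x * J) * (y * J) := by simp only [Matrix.mul_assoc]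
      _ = x * J * (y * J) := by rw [hx]
      _ = x * y * J := by rw [Matrix.mul_assoc, hy, Matrix.mul_assoc]
  rw [hC.group_eq] at hg
  induction hg using Subgroup.closure_induction with
  | mem g hg =>
    obtain ⟨r, s, hr, rfl⟩ := hg
    by_cases hs : s = 0
    · subst hs
      rw [hC.rt_zero, Units.val_one, Matrix.one_mul, hJJ]
    · obtain ⟨c, hc⟩ := hchar r hr (Units.mk0 s hs)
      have he := hC.torus_conj_rt c hr (1 : F)
      rw [hc, mul_one, Units.val_mk0] at he
      have ht : ∀ c : Fin D.rank → Fˣ, J * ((torus D c : GL D.Idx F) : Matrix D.Idx D.Idx F) =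
          ((torus D c : GL D.Idx F) : Matrix D.Idx D.Idx F) * J := by
        intro c
        rw [hJ, evalB_projB, torus_apply, coe_dgR, Matrix.diagonal_mul_diagonal, Matrix.diagonal_mul_diagonal]
        congr 1
        funext a
        exact mul_comm _ _
      have h1 : J * (D.x F r 1 * J) = D.x F r 1 * J := by
        have := h r hr
        rw [invOK, beq_iff_eq] at this
        have := congrArg (evalB D F) this
        rwa [evalB_bmul D h2, evalB_bmul D h2, evalB_bx D h2] at this
      have htJ : ∀ c : Fin D.rank → Fˣ, J * (((torus D c : GL D.Idx F) : Matrix D.Idx D.Idx F) * J) =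
          ((torus D c : GL D.Idx F) : Matrix D.Idx D.Idx F) * J := fun c => by
        rw [← Matrix.mul_assoc, ht, Matrix.mul_assoc, hJJ]
      rw [← he, ← map_inv, Units.val_mul, Units.val_mul]
      refine hmul _ _ (hmul _ _ (htJ c) ?_) (htJ _)
      rw [hC.coe_rt]
      exact h1
  | one => rw [Units.val_one, Matrix.one_mul, hJJ]
  | mul x y _ _ hx hy => rw [Units.val_mul]; exact hmul _ _ hx hy
  | inv x _ hx =>
    -- the image of a finite set under an injection into itself
    have key : ∀ n : ℕ, J * (((x ^ n : GL D.Idx F) : Matrix D.Idx D.Idx F) * J) =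
        ((x ^ n : GL D.Idx F) : Matrix D.Idx D.Idx F) * J := by
      intro n
      induction n with
      | zero => rw [pow_zero, Units.val_one, Matrix.one_mul, hJJ]
      | succ n ih => rw [pow_succ, Units.val_mul]; exact hmul _ _ ih hx
    obtain ⟨n, hn⟩ : ∃ n : ℕ, x⁻¹ = x ^ n := by
      refine ⟨orderOf x - 1, inv_eq_of_mul_eq_one_right ?_⟩
      have hpos := orderOf_pos x
      rw [← pow_succ', show orderOf x - 1 + 1 = orderOf x by omega]
      exact pow_orderOf_eq_one x
    rw [hn]
    exact key n

/-- Products with different ranks on an invariant subspace are not conjugate. -/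
theorem not_conj (m : ℕ) (h : ∀ g ∈ D.group F,
      evalB D F (projB D m) * ((g : Matrix D.Idx D.Idx F) * evalB D F (projB D m)) =
        (g : Matrix D.Idx D.Idx F) * evalB D F (projB D m))
    {w₁ w₂ C E A B : List ℕ} {k₁ k₂ : ℕ} (hk : k₁ < k₂) (hk₂ : k₂ ≤ D.rank + D.nroots)
    (h1 : upOK D m w₁ k₁ C E = true) (h2 : lowOK D m w₂ k₂ A B = true)
    {y₁ y₂ : GL D.Idx F} (e1 : (y₁ : Matrix D.Idx D.Idx F) = D.wordMat F (w₁.map fun r => (r, 1)))
    (e2 : (y₂ : Matrix D.Idx D.Idx F) = D.wordMat F (w₂.map fun r => (r, 1))) {g : GL D.Idx F}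
    (hg : g ∈ D.group F) : g * y₁ * g⁻¹ ≠ y₂ := by
  intro he
  have hh : (2 : F) = 0 := CharTwo.two_eq_zero
  set J := evalB D F (projB D m)
  have hgi := h _ (inv_mem hg)
  rw [upOK, beq_iff_eq] at h1
  rw [lowOK, beq_iff_eq] at h2
  have h1' := congrArg (evalB D F) h1
  have h2' := congrArg (evalB D F) h2
  simp only [evalB_bmul D hh, evalB_subOne] at h1' h2'
  rw [← e1] at h1'
  rw [← e2] at h2'
  have hd : ((y₂ : Matrix D.Idx D.Idx F) - 1) * J =
      (g : Matrix D.Idx D.Idx F) * (((y₁ : Matrix D.Idx D.Idx F) - 1) * J) *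
        ((g⁻¹ : GL D.Idx F) * J) := by
    rw [← he, Units.val_mul, Units.val_mul]
    calc ((g : Matrix D.Idx D.Idx F) * y₁ * (g⁻¹ : GL D.Idx F) - 1) * J
        = (g : Matrix D.Idx D.Idx F) * ((y₁ : Matrix D.Idx D.Idx F) - 1) * ((g⁻¹ : GL D.Idx F) * J) := by
          rw [mul_sub, mul_one, Matrix.sub_mul, Matrix.sub_mul]
          simp only [← Matrix.mul_assoc, Units.mul_inv]
      _ = _ := by
          conv_lhs => rw [← hgi]
          simp only [Matrix.mul_assoc, J]
  rw [hd, h1'] at h2'
  have hr := congrArg Matrix.rank h2'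
  rw [rank_projB_low k₂ hk₂] at hr
  refine absurd hr (ne_of_lt (lt_of_le_of_lt ?_ hk))
  refine (Matrix.rank_mul_le_right _ _).trans ((Matrix.rank_mul_le_left _ _).trans
    ((Matrix.rank_mul_le_left _ _).trans ((Matrix.rank_mul_le_right _ _).trans
      ((Matrix.rank_mul_le_right _ _).trans ((Matrix.rank_mul_le_left _ _).trans ?_)))))
  exact (rank_projB_low k₁ (hk.le.trans hk₂)).le

end H21.Invol
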