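import Cfsg.Agent.H21.Invol.Cert
import Cfsg.Agent.H21.Invol.Rank
import Cfsg.Agent.H54.ChevSylow

/-!
From certificates to classes of involutions.
-/

set_option autoImplicit false
set_option linter.unusedSectionVars false
set_option maxHeartbeats 200000

namespace H21.Invol

open Cfsg.Lie H52

variable {D : ChevalleyDatum} {F : Type*} [Field F] [Fintype F] [CharP F 2]

/-- Every involution is conjugate to a representative. -/
theorem exists_rep (C : H54.Ctx D) {t : Tab} (ht : ∀ r < D.nroots, tabOK D t r = true)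
    {reps : List (List ℕ)} {TN : Tr NSt} {lenN : ℕ} (hN : ∀ i < lenN, chkN D t reps TN i = true)
    {TS : Tr St} {len : ℕ} (hT : ∀ i < len, chk D t TS TN lenN i = true)
    {root : ℕ} (hroot : root < len) (hS : lst D (TS.get root).nS = posList D) (h0 : (TS.get root).nN = 0)
    {g : GL D.Idx F} (hg : g ∈ D.group F) (ho : orderOf g = 2) :
    ∃ h ∈ D.group F, ∃ L ∈ reps, h * g * h⁻¹ = prodRt D L fun _ => (1 : F) := by
  classical
  haveI : Fact (Nat.Prime 2) := ⟨Nat.prime_two⟩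
  obtain ⟨P, hP⟩ := C.exists_sylow (F := F) 2
  set a : ↥(D.group F) := ⟨g, hg⟩
  have ha : orderOf a = 2 := (Subgroup.orderOf_mk g hg).trans ho
  have hX : IsPGroup 2 ↥(Subgroup.zpowers a) :=
    IsPGroup.of_card (n := 1) (by rw [Nat.card_zpowers, ha, pow_one])
  obtain ⟨Q, hQ⟩ := hX.exists_le_sylow
  obtain ⟨c, hc⟩ := MulAction.exists_smul_eq ↥(D.group F) Q P
  have h1 : c * a * c⁻¹ ∈ (P : Subgroup ↥(D.group F)) := by
    rw [← hc]
    exact ⟨a, hQ (Subgroup.mem_zpowers a), rfl⟩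
  rw [hP, Subgroup.mem_subgroupOf, C.hC.posUnipotent_eq] at h1
  obtain ⟨x, hx⟩ := C.hC.exists_upProd (k := D.nroots / 2) le_rfl h1
  set u : GL D.Idx F := (c : GL D.Idx F) * g * (c : GL D.Idx F)⁻¹ with hu
  have hux : u = prodRt D (lst D (TS.get root).nS) x := by rw [hS]; exact hx
  have hg2 : g * g = 1 := by rw [← pow_two, ← ho]; exact pow_orderOf_eq_one g
  have hu2 : u * u = 1 := by
    rw [hu, show (c : GL D.Idx F) * g * (c : GL D.Idx F)⁻¹ * ((c : GL D.Idx F) * g * (c : GL D.Idx F)⁻¹) =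
      (c : GL D.Idx F) * (g * g) * (c : GL D.Idx F)⁻¹ by group, hg2]
    group
  have := symbolic_sound C.hC ht hN hT root hroot x (fun r _ hr => by simp [h0] at hr)
    (by rw [← hux]; exact hu2)
  rw [← hux] at this
  rcases this with h | h
  · exfalso
    have : g = 1 := by
      calc g = (c : GL D.Idx F)⁻¹ * u * (c : GL D.Idx F) := by rw [hu]; group
        _ = 1 := by rw [h]; group
    rw [this, orderOf_one] at ho
    omega
  · exact Rep.of_conj c.2 h

/-- An involution that is a product of root elements. -/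
theorem orderOf_prodRt (C : H54.Ctx D) {t : Tab} (ht : ∀ r < D.nroots, tabOK D t r = true) {L : List ℕ}
    (h1 : pushes D t fuel (onesW L ++ onesW L) [] = some [])
    (h2 : isNF D (onesW L) = true) (h3 : ∃ r ∈ posList D, (coef (onesW L) r) = [[]]) :
    orderOf (prodRt D L fun _ => (1 : F)) = 2 := by
  have hh : (2 : F) = 0 := CharTwo.two_eq_zero
  have hsq := evW_pushes hh (fun _ => (0 : F)) C.hC ht _ _ _ _ h1
  rw [evW_nil, mul_one, evW_append, evW_onesW] at hsq
  haveI : Fact (Nat.Prime 2) := ⟨Nat.prime_two⟩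
  refine orderOf_eq_prime (by rw [pow_two]; exact hsq.symm) fun e => ?_
  obtain ⟨r, hr, hc⟩ := h3
  obtain ⟨hr1, hr2⟩ := lt_of_mem_posList C.hC hr
  have := coef_eq_zero (fun _ => (0 : F)) C.hC h2 (by rw [evW_onesW]; exact e) hr1 hr2
  rw [hc] at this
  simp [evP, evM] at this

theorem coe_prodRt {T : Tables} (hC : Checked D T) (L : List ℕ) :
    ((prodRt D L fun _ => (1 : F)) : Matrix D.Idx D.Idx F) = D.wordMat F (L.map fun r => (r, 1)) :=
  hC.coe_wordRt _

theorem prodRt_mem {T : Tables} (hC : Checked D T) (L : List ℕ) :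
    (prodRt D L fun _ => (1 : F)) ∈ D.group F := by
  refine list_prod_mem fun x hx => ?_
  obtain ⟨p, -, rfl⟩ := List.mem_map.1 hx
  exact hC.rt_mem_group _ _

/-- Every root character of the torus is surjective. -/
theorem exists_char {tor : List (ℕ × List (List ℤ))}
    (h : ∀ r < D.nroots, chkTorus D [r] (tor.getD r (0, [])).1 (tor.getD r (0, [])).2 = true) :
    ∀ r < D.nroots, ∀ x : Fˣ, ∃ c : Fin D.rank → Fˣ, (∏ i : Fin D.rank, c i ^ D.cartan i.val r : Fˣ) = x := by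
  intro r hr x
  obtain ⟨c, hc⟩ := exists_scale (h r hr) (fun _ => ((x⁻¹ : Fˣ) : F)) (fun _ _ => (x⁻¹).ne_zero)
  refine ⟨c, ?_⟩
  have := hc r List.mem_cons_self
  rw [← Units.val_mul, Units.val_eq_one, mul_inv_eq_one] at this
  exact this

/-- The matrices of the representatives have order two, exhaust the involutions and are pairwise inconjugate. -/
theorem classes (C : H54.Ctx D) {t : Tab} (ht : ∀ r < D.nroots, tabOK D t r = true)
    {reps : List (List ℕ)} {TN : Tr NSt} {lenN : ℕ} (hN : ∀ i < lenN, chkN D t reps TN i = true)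
    {TS : Tr St} {len : ℕ} (hT : ∀ i < len, chk D t TS TN lenN i = true)
    {root : ℕ} (hroot : root < len) (hS : lst D (TS.get root).nS = posList D) (h0 : (TS.get root).nN = 0)
    (hord : ∀ L ∈ reps, pushes D t fuel (onesW L ++ onesW L) [] = some [] ∧ isNF D (onesW L) = true ∧
      ∃ r ∈ posList D, coef (onesW L) r = [[]])
    (hsep : ∀ L ∈ reps, ∀ L' ∈ reps, L ≠ L' →
      ∀ g ∈ D.group F, g * (prodRt D L fun _ => (1 : F)) * g⁻¹ ≠ prodRt D L' fun _ => (1 : F))
    {M : List (Matrix D.Idx D.Idx F)} (hM : M = reps.map fun L => D.wordMat F (L.map fun r => (r, 1))) :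
    (∀ y : GL D.Idx F, (y : Matrix D.Idx D.Idx F) ∈ M → y ∈ D.group F ∧ orderOf y = 2) ∧
    (∀ g ∈ D.group F, orderOf g = 2 → ∃ y ∈ D.group F, (y : Matrix D.Idx D.Idx F) ∈ M ∧
      ∃ h ∈ D.group F, h * g * h⁻¹ = y) ∧
    (∀ y₁ ∈ D.group F, ∀ y₂ ∈ D.group F, (y₁ : Matrix D.Idx D.Idx F) ∈ M → (y₂ : Matrix D.Idx D.Idx F) ∈ M →
      (∃ h ∈ D.group F, h * y₁ * h⁻¹ = y₂) → (y₁ : Matrix D.Idx D.Idx F) = (y₂ : Matrix D.Idx D.Idx F)) := by
  have hmem : ∀ y : GL D.Idx F, (y : Matrix D.Idx D.Idx F) ∈ M → ∃ L ∈ reps, y = prodRt D L fun _ => (1 : F) := by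
    intro y hy
    rw [hM] at hy
    obtain ⟨L, hL, he⟩ := List.mem_map.1 hy
    exact ⟨L, hL, Units.ext (he.symm.trans (coe_prodRt C.hC L).symm)⟩
  refine ⟨fun y hy => ?_, fun g hg ho => ?_, fun y₁ hy₁ y₂ hy₂ h1 h2 hc => ?_⟩
  · obtain ⟨L, hL, rfl⟩ := hmem y hy
    obtain ⟨a, b, c⟩ := hord L hL
    exact ⟨prodRt_mem C.hC L, orderOf_prodRt C ht a b c⟩
  · obtain ⟨h, hh, L, hL, he⟩ := exists_rep C ht hN hT hroot hS h0 hg ho
    refine ⟨_, prodRt_mem C.hC L, ?_, h, hh, he⟩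
    rw [hM, coe_prodRt C.hC]
    exact List.mem_map.2 ⟨L, hL, rfl⟩
  · obtain ⟨L, hL, rfl⟩ := hmem y₁ h1
    obtain ⟨L', hL', rfl⟩ := hmem y₂ h2
    obtain ⟨g, hg, he⟩ := hc
    by_cases e : L = L'
    · rw [e]
    · exact absurd he (hsep L hL L' hL' e g hg)

end H21.Invol

namespace H21.Invol

open Cfsg.Lie H52

variable {D : ChevalleyDatum} {F : Type*} [Field F] [Fintype F] [CharP F 2]

theorem prodRt_eq_of_pushes {T : Tables} (hC : Checked D T) {t : Tab} (ht : ∀ r < D.nroots, tabOK D t r = true)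
    {L L' : List ℕ} (h : pushes D t fuel (onesW L) [] = some (onesW L')) :
    (prodRt D L fun _ => (1 : F)) = prodRt D L' fun _ => (1 : F) := by
  have := evW_pushes (CharTwo.two_eq_zero : (2 : F) = 0) (fun _ => (0 : F)) hC ht _ _ _ _ h
  rw [evW_nil, mul_one, evW_onesW, evW_onesW] at this
  exact this.symm

/-- Certificates of exact rank: the rank and two pairs of matrices. -/
structure RankCert where
  m : ℕ
  L : List ℕ
  k : ℕ
  C : List ℕ
  E : List ℕ
  A : List ℕ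
  B : List ℕ

/-- Check a rank certificate. -/
def RankCert.ok (D : ChevalleyDatum) (c : RankCert) : Bool :=
  decide (c.k ≤ D.rank + D.nroots) && upOK D c.m c.L c.k c.C c.E && lowOK D c.m c.L c.k c.A c.B

/-- Two certificates separate two products. -/
theorem sep_of_certs (C : H54.Ctx D) {tor : List (ℕ × List (List ℤ))}
    (htor : ∀ r < D.nroots, chkTorus D [r] (tor.getD r (0, [])).1 (tor.getD r (0, [])).2 = true)
    {cs : List RankCert} (hcs : ∀ c ∈ cs, c.ok D = true) {ms : List ℕ}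
    (hms : ∀ m ∈ ms, projB D m = H53.BitMat.bone (D.rank + D.nroots) ∨ ∀ r < D.nroots, invOK D m r = true)
    {reps : List (List ℕ)}
    (hcov : ∀ L ∈ reps, ∀ L' ∈ reps, L = L' ∨
      ∃ c ∈ cs, ∃ c' ∈ cs, c.m ∈ ms ∧ c'.m = c.m ∧ c.L = L ∧ c'.L = L' ∧ c.k ≠ c'.k) :
    ∀ L ∈ reps, ∀ L' ∈ reps, L ≠ L' →
      ∀ g ∈ D.group F, g * (prodRt D L fun _ => (1 : F)) * g⁻¹ ≠ prodRt D L' fun _ => (1 : F) := by
  intro L hL L' hL' hne g hg he
  obtain ⟨c, hc, c', hc', hm, hm', rfl, rfl, hk⟩ := (hcov L hL L' hL').resolve_left hne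
  have h1 := hcs c hc
  have h2 := hcs c' hc'
  simp only [RankCert.ok, Bool.and_eq_true, decide_eq_true_eq] at h1 h2
  rw [hm'] at h2
  have hJ : ∀ g ∈ D.group F, H53.BitMat.evalB D F (projB D c.m) *
      ((g : Matrix D.Idx D.Idx F) * H53.BitMat.evalB D F (projB D c.m)) =
        (g : Matrix D.Idx D.Idx F) * H53.BitMat.evalB D F (projB D c.m) := by
    intro g hg
    rcases hms _ hm with h | h
    · rw [h, H53.BitMat.evalB_bone D, Matrix.mul_one, Matrix.one_mul]
    · exact inv_group C.hC c.m h (exists_char htor) hg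
  rcases lt_or_gt_of_ne hk with h | h
  · exact not_conj c.m hJ h h2.1.1 h1.1.2 h2.2
      (coe_prodRt C.hC c.L) (coe_prodRt C.hC c'.L) hg he
  · refine not_conj c.m hJ h h1.1.1 h2.1.2 h1.2
      (coe_prodRt C.hC c'.L) (coe_prodRt C.hC c.L) (inv_mem hg) ?_
    rw [← he]
    group

end H21.Invol
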