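import Cfsg.Agent.H52.Unipotent

/-!
A checked collection process for words in root elements over a field of characteristic two, with parameters
polynomial in variables.
-/

set_option autoImplicit false
set_option linter.unusedSectionVars false
set_option maxHeartbeats 200000

namespace H21.Invol

open Cfsg.Lie H52

/-- A monomial. -/
abbrev Mon := List ℕ
/-- A polynomial modulo two. -/
abbrev Pol := List Mon
/-- A word. -/
abbrev Wd := List (ℕ × Pol)

/-- Insert a variable. -/
def mins (a : ℕ) : Mon → Mon
  | [] => [a]
  | b :: L => if a ≤ b then a :: b :: L else b :: mins a L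

/-- Product of monomials. -/
def mmul (p q : Mon) : Mon := p.foldr mins q

/-- Add a monomial. -/
def tog (p : Mon) : Pol → Pol
  | [] => [p]
  | q :: L => if p = q then L else q :: tog p L

/-- Sum. -/
def padd (P Q : Pol) : Pol := P.foldr tog Q

/-- Product. -/
def pmul (P Q : Pol) : Pol := P.foldr (fun p acc => padd (Q.map (mmul p)) acc) []

/-- Power. -/
def ppow (P : Pol) : ℕ → Pol
  | 0 => [[]]
  | k + 1 => pmul (ppow P k) P

variable {F : Type*} [Field F]

/-- The value of a monomial. -/
def evM (ρ : ℕ → F) (p : Mon) : F := (p.map ρ).prod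

/-- The value of a polynomial. -/
def evP (ρ : ℕ → F) (P : Pol) : F := (P.map (evM ρ)).sum

/-- The value of a word. -/
noncomputable def evW (D : ChevalleyDatum) (ρ : ℕ → F) (w : Wd) : GL D.Idx F :=
  wordRt D (w.map fun p => (p.1, evP ρ p.2))

/-- Commutator data: `(k, i, j)` for the terms with odd coefficient. -/
abbrev Tab := List (List (List (ℕ × ℕ × ℕ)))

/-- An entry. -/
def Tab.at' (t : Tab) (r s : ℕ) : List (ℕ × ℕ × ℕ) := (t.getD r []).getD s []

/-- The odd terms of the commutator formula. -/
def oddTerms (D : ChevalleyDatum) (r s : ℕ) : List (ℕ × ℕ × ℕ) :=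
  (D.commTerms r s).filterMap fun c => if c.2.1 % 2 = 0 then none else some (c.1, c.2.2)

/-- The table is right. -/
def tabOK (D : ChevalleyDatum) (t : Tab) (r : ℕ) : Bool :=
  (List.range D.nroots).all fun s => t.at' r s == oddTerms D r s

/-- The correction when a letter passes another one. -/
def comm (t : Tab) (r s : ℕ) (x y : Pol) : Wd :=
  ((t.at' r s).map fun c => (c.1, pmul (ppow x c.2.1) (ppow y c.2.2))).filter fun p => !p.2.isEmpty

/-- Collection: multiply the collected word `L` on the left by the word. -/
def pushes (D : ChevalleyDatum) (t : Tab) : ℕ → Wd → Wd → Option Wd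
  | _, [], L => some L
  | 0, _ :: _, _ => none
  | f + 1, (a, x) :: its, L =>
    match pushes D t f its L with
    | none => none
    | some [] => some [(a, x)]
    | some ((b, y) :: R) =>
      if a < b then some ((a, x) :: (b, y) :: R)
      else if a = b then
        let z := padd x y
        some (if z.isEmpty then R else (a, z) :: R)
      else if a = D.neg b ∨ D.nroots ≤ a then none
      else pushes D t f ((b, y) :: (a, x) :: comm t b a y x) R

/-- The coefficient of a root. -/
def coef (w : Wd) (r : ℕ) : Pol :=
  match w.find? (fun p => p.1 == r) with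
  | some p => p.2
  | none => []

/-- The word is in normal form. -/
def isNF (D : ChevalleyDatum) (w : Wd) : Bool :=
  w == ((List.range' (D.nroots / 2) (D.nroots - D.nroots / 2)).filter fun r => !(coef w r).isEmpty).map
    fun r => (r, coef w r)

section sound

variable (h2 : (2 : F) = 0) (ρ : ℕ → F)

theorem evM_mins (a : ℕ) (p : Mon) : evM ρ (mins a p) = ρ a * evM ρ p := by
  induction p with
  | nil => simp [evM, mins]
  | cons b L ih =>
    simp only [mins]
    split_ifs
    · simp [evM]
    · simp only [evM, List.map_cons, List.prod_cons] at ih ⊢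
      rw [ih]; ring

theorem evM_mmul (p q : Mon) : evM ρ (mmul p q) = evM ρ p * evM ρ q := by
  induction p with
  | nil => simp [mmul, evM]
  | cons a p ih =>
    have e : mmul (a :: p) q = mins a (mmul p q) := rfl
    rw [e, evM_mins, ih]
    simp [evM, mul_assoc]

include h2

theorem evP_tog (p : Mon) (P : Pol) : evP ρ (tog p P) = evM ρ p + evP ρ P := by
  induction P with
  | nil => simp [evP, tog]
  | cons q L ih =>
    simp only [tog]
    split_ifs with h
    · subst h
      simp only [evP, List.map_cons, List.sum_cons]
      linear_combination (-evM ρ p) * h2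
    · simp only [evP, List.map_cons, List.sum_cons] at ih ⊢
      rw [ih]; ring

theorem evP_padd (P Q : Pol) : evP ρ (padd P Q) = evP ρ P + evP ρ Q := by
  induction P with
  | nil => simp [padd, evP]
  | cons p P ih =>
    have e : padd (p :: P) Q = tog p (padd P Q) := rfl
    rw [e, evP_tog h2, ih]
    simp [evP, add_assoc]

theorem evP_pmul (P Q : Pol) : evP ρ (pmul P Q) = evP ρ P * evP ρ Q := by
  induction P with
  | nil => simp [pmul, evP]
  | cons p P ih =>
    have e : pmul (p :: P) Q = padd (Q.map (mmul p)) (pmul P Q) := rfl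
    rw [e, evP_padd h2, ih]
    have e2 : evP ρ (Q.map (mmul p)) = evM ρ p * evP ρ Q := by
      simp only [evP, List.map_map]
      rw [← List.sum_map_mul_left]
      exact congrArg List.sum (List.map_congr_left fun q _ => evM_mmul ρ p q)
    rw [e2]
    simp [evP, add_mul]

theorem evP_ppow (P : Pol) (k : ℕ) : evP ρ (ppow P k) = evP ρ P ^ k := by
  induction k with
  | zero => simp [ppow, evP, evM]
  | succ k ih => rw [ppow, evP_pmul h2, ih, pow_succ]

omit h2

variable {D : ChevalleyDatum} {T : Tables} (hC : Checked D T)

theorem evW_nil : evW D ρ [] = 1 := by simp [evW, wordRt]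

theorem evW_cons (p : ℕ × Pol) (w : Wd) :
    evW D ρ (p :: w) = rt D p.1 (evP ρ p.2) * evW D ρ w := by
  simp [evW, wordRt]

theorem evW_append (v w : Wd) : evW D ρ (v ++ w) = evW D ρ v * evW D ρ w := by
  simp [evW, wordRt, List.map_append, List.prod_append]

include hC in
theorem evW_filter (w : Wd) : evW D ρ (w.filter fun p => !p.2.isEmpty) = evW D ρ w := by
  induction w with
  | nil => rfl
  | cons p w ih =>
    rcases hp : p.2 with _ | ⟨q, L⟩
    · rw [List.filter_cons_of_neg (by simp [hp]), ih, evW_cons, hp]
      simp [evP, hC.rt_zero]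
    · rw [List.filter_cons_of_pos (by simp [hp]), evW_cons, evW_cons, ih]

variable {t : Tab} (ht : ∀ r < D.nroots, tabOK D t r = true)

include h2 hC ht

theorem evW_comm {r s : ℕ} (hr : r < D.nroots) (hs : s < D.nroots) (x y : Pol) :
    evW D ρ (comm t r s x y) = wordRt D (D.commWord F r s (evP ρ x) (evP ρ y)) := by
  have hneg : ∀ z : F, -z = z := fun z => by linear_combination -z * h2
  have hrs : t.at' r s = oddTerms D r s := by
    have := ht r hr
    simp only [tabOK, List.all_eq_true, List.mem_range] at this
    exact eq_of_beq (this s hs)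
  rw [comm, evW_filter ρ hC, hrs, oddTerms, ChevalleyDatum.commWord]
  induction D.commTerms r s with
  | nil => simp [evW, wordRt]
  | cons c L ih =>
    rw [List.map_cons]
    have hw : ∀ (p : ℕ × F) (v : List (ℕ × F)), wordRt D (p :: v) = rt D p.1 p.2 * wordRt D v :=
      fun p v => by simp [wordRt]
    rw [hw, ← ih]
    by_cases h : c.2.1 % 2 = 0
    · rw [List.filterMap_cons_none (by simp [h])]
      obtain ⟨d, hd⟩ : (2 : ℤ) ∣ c.2.1 := Int.dvd_of_emod_eq_zero h
      rw [hd]
      push_cast
      simp [h2, hC.rt_zero]
    · rw [List.filterMap_cons_some (b := (c.1, c.2.2)) (by simp [h]), List.map_cons, evW_cons]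
      congr 2
      obtain ⟨d, hd⟩ : ∃ d : ℤ, c.2.1 = 2 * d + 1 := ⟨c.2.1 / 2, by omega⟩
      rw [hd, evP_pmul h2, evP_ppow h2, evP_ppow h2, hneg]
      push_cast
      linear_combination (-((d : F) * evP ρ x ^ c.2.2.1 * evP ρ y ^ c.2.2.2)) * h2

theorem evW_pushes : ∀ (f : ℕ) (w L L' : Wd), pushes D t f w L = some L' →
    evW D ρ L' = evW D ρ w * evW D ρ L
  | f, [], L, L', h => by
    rw [pushes] at h
    cases h
    rw [evW_nil, one_mul]
  | 0, _ :: _, _, _, h => by simp [pushes] at h
  | f + 1, (a, x) :: its, L, L', h => by
    rw [pushes] at h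
    rw [evW_cons, mul_assoc]
    cases hp : pushes D t f its L with
    | none => rw [hp] at h; cases h
    | some M =>
      rw [hp] at h
      rw [← evW_pushes f its L M hp]
      cases M with
      | nil =>
        cases h
        rw [evW_cons]
      | cons p R =>
        obtain ⟨b, y⟩ := p
        simp only at h
        split_ifs at h with h1 h3 hz h4
        · cases h
          rw [evW_cons ρ (a, x)]
        · cases h
          subst h3
          rw [evW_cons, ← mul_assoc, hC.rt_mul, ← evP_padd h2, List.isEmpty_iff.1 hz]
          simp [evP, hC.rt_zero]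
        · cases h
          subst h3
          rw [evW_cons, evW_cons, ← mul_assoc, hC.rt_mul, evP_padd h2]
        · push Not at h4
          obtain ⟨hne, ha⟩ := h4
          rw [evW_pushes f _ R L' h, evW_cons, evW_cons, evW_cons, evW_comm h2 ρ hC ht (by omega) ha,
            ← mul_assoc (rt D a _) (rt D b _), hC.comm_rt (by omega) ha h3 hne]
          simp only [mul_assoc]

omit h2 ht in
theorem evW_isNF {w : Wd} (h : isNF D w = true) :
    evW D ρ w = upProd D (D.nroots / 2) fun r => evP ρ (coef w r) := by
  rw [isNF, beq_iff_eq] at h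
  conv_lhs => rw [h]
  rw [evW, upProd, List.map_map]
  generalize List.range' (D.nroots / 2) (D.nroots - D.nroots / 2) = R
  induction R with
  | nil => rfl
  | cons r R ih =>
    by_cases hr : (coef w r).isEmpty = true
    · rw [List.filter_cons_of_neg (by simp [hr]), ih]
      simp [wordRt, List.isEmpty_iff.1 hr, evP, hC.rt_zero]
    · rw [List.filter_cons_of_pos (by simp [hr])]
      simp only [wordRt, List.map_cons, List.prod_cons, Function.comp_apply] at ih ⊢
      rw [ih]

omit h2 ht in
theorem upProd_zero (k : ℕ) : upProd D k (fun _ => (0 : F)) = 1 := by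
  rw [upProd, wordRt]
  refine List.prod_eq_one fun x hx => ?_
  simp only [List.map_map, List.mem_map] at hx
  obtain ⟨r, -, rfl⟩ := hx
  exact hC.rt_zero r

omit h2 ht in
theorem coef_eq_zero {w : Wd} (h : isNF D w = true) (h1 : evW D ρ w = 1) {r : ℕ}
    (hr : D.nroots / 2 ≤ r) (hr' : r < D.nroots) : evP ρ (coef w r) = 0 := by
  rw [evW_isNF ρ hC h, ← upProd_zero hC (D.nroots / 2)] at h1
  exact hC.upProd_injective (k := D.nroots / 2) le_rfl h1 r hr hr'

end sound

end H21.Invol
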